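import Mathlib
import Cfsg.Agent.H54.MtAct
import Cfsg.Agent.JY.Recog
import Cfsg.Agent.JY.Cit

set_option autoImplicit false
set_option linter.unusedSectionVars false
set_option linter.style.haveILetI false
set_option linter.unusedVariables false

/-!
# CIT groups with `O₂(G) ≠ 1`
-/

namespace Cfsg.Agent.H54.MtP11b

open Subgroup Cfsg Cfsg.Agent.H80 Cfsg.Agent.H32 Cfsg.Agent.CIT

universe u

theorem p11b {G : Type u} [Group G] [Finite G] (hG : JY.CIT G) {L : Subgroup (G ⧸ pCore 2 G)} (D : JY.Dat G L)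
    (hQ : pCore 2 G ≠ ⊥) :
    (∃ (F : Type) (_ : Field F) (_ : Fintype F) (n : ℕ), 2 ≤ n ∧ Fintype.card F = 2 ^ n ∧
      Nonempty (L ≃* Matrix.ProjectiveSpecialLinearGroup (Fin 2) F)) ∨ Cfsg.Lie.IsoSuzuki L := by
  classical
  haveI : Fact (Nat.Prime 2) := ⟨Nat.prime_two⟩
  haveI := D.simple
  have hGL : CIT.IsCIT L := fun t ht => D.citL t ht
  have hna' := D.comm
  have hLs : ¬ Group.IsSolvable L := by
    intro h
    obtain ⟨a, b, hne⟩ := hna'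
    exact hne ((IsSimpleGroup.comm_iff_isSolvable.2 h) a b)
  have h2 : 2 ∣ Nat.card L := JY.even_card JY.os hLs
  obtain ⟨S⟩ : Nonempty (Sylow 2 L) := inferInstance
  have hne : (S : Subgroup L) ≠ ⊥ := S.ne_bot_of_dvd_card h2
  rcases CIT.dich hGL S hne with ⟨Q, hQ1, hQS, hSQ, hQ⟩ | ⟨T, W, W', hTS, hT⟩
  · have hQ2 : IsPGroup 2 Q := S.2.to_le hQS
    obtain ⟨M, hM, hP⟩ := CIT.exists_se hGL hna' hQ1 hQ2 hQ
    obtain ⟨R, hRM, hRn, h3, h4⟩ := CIT.se_reg hGL hna' hM hP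
    obtain ⟨t, hS⟩ := RK.setup_of_stronglyEmbedded M hM R hRM hRn h3 h4
    rcases RK.simple_classification hS with ⟨F, i1, i2, ⟨n, hn, hc⟩, ⟨f⟩⟩ | h | ⟨F, i1, i2, n, hn, hc, ⟨f⟩⟩
    · exact Or.inl ⟨F, i1, i2, n, hn, hc, ⟨f⟩⟩
    · exact Or.inr h
    · refine absurd (CIT.IsCIT.of_equiv f hGL) (CIT.not_cit_psu hc ?_ ?_)
      · rw [Nat.even_pow]; exact ⟨even_two, by omega⟩
      · calc 4 = 2 ^ 2 := by norm_num
          _ ≤ 2 ^ n := Nat.pow_le_pow_right (by norm_num) hn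
  · exact absurd (MtAct.no_pair hG JY.pCore_two hQ hGL hna' hT) id

end Cfsg.Agent.H54.MtP11b
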